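import Groth.Agent.Lib.PerfModel10.Main
import Groth.Agent.Lib.LimDesc.Snd
import Groth.Agent.Lib.FlatLimit.Scheme

/-!
# Composites of perfections of flat morphisms of finite presentation
-/

set_option autoImplicit false
set_option linter.all false
set_option backward.isDefEq.respectTransparency false
set_option maxHeartbeats 1000000

universe u

open CategoryTheory CategoryTheory.Limits AlgebraicGeometry Opposite TopologicalSpace
open GrothLib.PerfLim10

noncomputable section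

namespace GrothLib.PerfComp10

variable {p : ℕ} [Fact p.Prime]

theorem isIso_fpow {X : Scheme.{u}} [FrobSch.IsCharP X p] (hX : FrobSch.IsPerfect X p) :
    ∀ n, IsIso (fpow p X n)
  | 0 => inferInstanceAs (IsIso (𝟙 X))
  | n + 1 => by
    haveI := isIso_fpow hX n
    haveI : IsIso (FrobSch.frob X p) := hX
    exact inferInstanceAs (IsIso (fpow p X n ≫ FrobSch.frob X p))

theorem fpow_comp {A B : Scheme.{u}} [FrobSch.IsCharP A p] [FrobSch.IsCharP B p] (f : A ⟶ B) :
    ∀ n, fpow p A n ≫ f = f ≫ fpow p B n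
  | 0 => by simp [fpow]
  | n + 1 => by
    show (fpow p A n ≫ FrobSch.frob A p) ≫ f = f ≫ fpow p B n ≫ FrobSch.frob B p
    rw [Category.assoc, FrobSch.frob_comp p f, ← Category.assoc, fpow_comp f n, Category.assoc]

theorem exists_factor {X Y Z Y₀ Z₀ : Scheme.{u}} [FrobSch.IsCharP X p] [FrobSch.IsCharP Y p] [FrobSch.IsCharP Z p]
    [FrobSch.IsCharP Y₀ p] [FrobSch.IsCharP Z₀ p] [CompactSpace X] [QuasiSeparatedSpace X]
    (hX : FrobSch.IsPerfect X p)
    (g₀ : Y₀ ⟶ X) [Flat g₀] [LocallyOfFinitePresentation g₀] [QuasiCompact g₀] [QuasiSeparated g₀]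
    (πY : Y ⟶ Y₀) (hY : FrobSch.IsPerfection πY p)
    (f₀ : Z₀ ⟶ Y) [Flat f₀] [LocallyOfFinitePresentation f₀] [QuasiCompact f₀] [QuasiSeparated f₀]
    (πZ : Z ⟶ Z₀) (hZ : FrobSch.IsPerfection πZ p) :
    ∃ (W₀ : Scheme.{u}) (h₀ : W₀ ⟶ X) (ϖ : Z ⟶ W₀),
      Flat h₀ ∧ LocallyOfFinitePresentation h₀ ∧ QuasiCompact h₀ ∧ QuasiSeparated h₀ ∧
        FrobSch.IsPerfection ϖ p ∧ ϖ ≫ h₀ = πZ ≫ f₀ ≫ πY ≫ g₀ ∧
          (Surjective g₀ → Surjective f₀ → Surjective h₀) := by
  haveI : CompactSpace Y₀ := QuasiCompact.compactSpace_of_compactSpace g₀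
  haveI : QuasiSeparatedSpace Y₀ := quasiSeparatedSpace_of_quasiSeparated g₀
  obtain ⟨c, hc, e, he⟩ := exists_limit p Y₀ hY
  let fc := f₀ ≫ e.hom
  haveI : QuasiCompact fc := inferInstanceAs (QuasiCompact (f₀ ≫ e.hom))
  haveI : QuasiSeparated fc := inferInstanceAs (QuasiSeparated (f₀ ≫ e.hom))
  haveI : LocallyOfFinitePresentation fc := inferInstanceAs (LocallyOfFinitePresentation (f₀ ≫ e.hom))
  haveI : Flat fc := inferInstanceAs (Flat (f₀ ≫ e.hom))
  obtain ⟨i, -, ⟨M⟩⟩ := LimDescend.exists_model_over (tower p Y₀) c hc (st 0) fc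
  haveI : CompactSpace M.obj := QuasiCompact.compactSpace_of_compactSpace M.hom
  haveI : QuasiSeparatedSpace M.obj := quasiSeparatedSpace_of_quasiSeparated M.hom
  obtain ⟨j, hj⟩ := LimDesc.exists_flat (tower p Y₀) hc M.hom (𝟙 ((tower p Y₀).obj i))
    (g := 𝟙 c.pt) (qY := c.π.app i) (IsPullback.of_vert_isIso ⟨by simp⟩) M.isPullback
  let t := (tower p Y₀).map j.hom
  let Z₁ := pullback (M.hom ≫ 𝟙 ((tower p Y₀).obj i)) t
  let f₁ : Z₁ ⟶ Y₀ := pullback.snd (M.hom ≫ 𝟙 ((tower p Y₀).obj i)) t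
  have hM : M.hom ≫ 𝟙 ((tower p Y₀).obj i) = M.hom := Category.comp_id _
  haveI : LocallyOfFinitePresentation (M.hom ≫ 𝟙 ((tower p Y₀).obj i)) := by rw [hM]; infer_instance
  haveI : QuasiCompact (M.hom ≫ 𝟙 ((tower p Y₀).obj i)) := by rw [hM]; infer_instance
  haveI : QuasiSeparated (M.hom ≫ 𝟙 ((tower p Y₀).obj i)) := by rw [hM]; infer_instance
  haveI : Flat f₁ := by
    have h1 : (LimDesc.mapNat (tower p Y₀) i (𝟙 _) (M.hom ≫ 𝟙 _) M.hom rfl).app j ≫ pullback.snd (𝟙 _) t = f₁ :=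
      pullback.lift_snd _ _ _
    haveI := hj
    rw [← h1]
    infer_instance
  haveI : LocallyOfFinitePresentation f₁ := MorphismProperty.pullback_snd _ _ inferInstance
  haveI : QuasiCompact f₁ := MorphismProperty.pullback_snd _ _ inferInstance
  haveI : QuasiSeparated f₁ := MorphismProperty.pullback_snd _ _ inferInstance
  let πj : c.pt ⟶ Y₀ := c.π.app j.left
  let r : Z₀ ⟶ Z₁ := pullback.lift M.proj (fc ≫ πj) (by
    rw [Category.assoc, show πj ≫ t = c.π.app i from c.w j.hom, Category.comp_id]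
    exact M.isPullback.w)
  have hr : IsPullback r fc f₁ πj := by
    refine IsPullback.of_right ?_ (pullback.lift_snd _ _ _) (IsPullback.of_hasPullback (M.hom ≫ 𝟙 _) t)
    rw [pullback.lift_fst, show πj ≫ t = c.π.app i from c.w j.hom, hM]
    exact M.isPullback
  let n := j.left.unop.down
  have hn : πj ≫ fpow p Y₀ n = c.π.app (st 0) := by
    have h := tower_w p Y₀ c 0 n (Nat.zero_le n)
    rw [Nat.sub_zero] at h
    exact h
  haveI := isIso_fpow hX n
  haveI : FrobSch.IsCharP c.pt p := FrobSch.IsCharP.of_hom (show c.pt ⟶ Y₀ from c.π.app (st 0)) p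
  have hP := isPerfection_π_zero p Y₀ hc
  refine ⟨Z₁, (f₁ ≫ g₀) ≫ fpow p X n, πZ ≫ r, inferInstance, inferInstance, inferInstance, inferInstance,
    ⟨hZ.1, fun T _ hT => ⟨fun a b hab => ?_, fun h => ?_⟩⟩, ?_, fun hg hf => ?_⟩
  · refine (hZ.2 T hT).1 ?_
    apply hr.hom_ext
    · simpa [Category.assoc] using hab
    · refine (hP.2 T hT).1 ?_
      show ((a ≫ πZ) ≫ fc) ≫ c.π.app (st 0) = ((b ≫ πZ) ≫ fc) ≫ c.π.app (st 0)
      have h1 := congrArg (fun z => z ≫ f₁ ≫ fpow p Y₀ n) hab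
      simp only [Category.assoc] at h1
      rw [reassoc_of% hr.w, hn] at h1
      simpa only [Category.assoc] using h1
  · obtain ⟨u, hu⟩ := (hP.2 T hT).2 ((h ≫ f₁) ≫ fpow p Y₀ n)
    dsimp at hu
    have hu' : u ≫ πj = h ≫ f₁ := PerfModel10.cancel_fpow hT n _ _ (by rw [Category.assoc, hn]; exact hu)
    obtain ⟨v, hv⟩ := (hZ.2 T hT).2 (hr.lift h u hu'.symm)
    dsimp at hv
    exact ⟨v, by show v ≫ πZ ≫ r = h; rw [reassoc_of% hv, hr.lift_fst]⟩
  · have h1 : (f₁ ≫ g₀) ≫ fpow p X n = f₁ ≫ fpow p Y₀ n ≫ g₀ := by rw [fpow_comp g₀ n, Category.assoc]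
    rw [h1, Category.assoc, reassoc_of% hr.w, reassoc_of% hn]
    simp only [fc, Category.assoc]
    rw [reassoc_of% he]
  · haveI := hg
    haveI := hf
    haveI : Surjective πj := by
      haveI := Frob.surjective_of_isPerfection hP
      refine ⟨fun y => ?_⟩
      obtain ⟨x, hx⟩ := (show c.pt ⟶ Y₀ from c.π.app (st 0)).surjective y
      exact ⟨x, by
        have h1 : ∀ m, ∀ z : Y₀, fpow p Y₀ m z = z := fun m => by
          induction m with
          | zero => exact fun z => rfl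
          | succ m ih =>
            intro z
            show FrobSch.frob Y₀ p (fpow p Y₀ m z) = z
            rw [ih, FrobSch.frob_apply]
        rw [← h1 n (πj x), ← Scheme.Hom.comp_apply, hn, hx]⟩
    haveI : Surjective fc := inferInstanceAs (Surjective (f₀ ≫ e.hom))
    haveI : Surjective f₁ := by
      haveI : Surjective (r ≫ f₁) := by rw [hr.w]; infer_instance
      exact Surjective.of_comp r f₁
    infer_instance

end GrothLib.PerfComp10
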